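import Cfsg.Agent.H853.Sieve.Mask

/-!
# S4910, row M: the degree sieve of the Monster (helper853)

`Cand d`: the constraints on the degree `d` of a character in the `3`-block of the Monster with defect group `3C` and
canonical character of degree `767637` (`d = 3^19 m`).  `m_sieve`: of three such degrees with `d1 + d2 = d3` one is
prime to `196883 = 47 * 59 * 71`.
-/

set_option autoImplicit false
set_option maxRecDepth 100000
set_option maxHeartbeats 4000000

namespace Cfsg.Agent.H853.Sieve.RowM

open Cfsg.Agent.H853.Sieve

/-- the order of the Monster -/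
def ordM : ℕ := 808017424794512875886459904961710757005754368000000000

/-- The constraints on a degree in the block. `d = 3 ^ 19 * m`. -/
structure Cand (d : ℕ) : Prop where
  /-- `3 ^ 19` divides `d` -/
  three : 3 ^ 19 ∣ d
  /-- `d` divides `|M| θ(1) / (3 |Th|)`, `θ(1) = 767637` -/
  div : d ∣ 2 ^ 31 * 3 ^ 19 * 5 ^ 6 * 7 ^ 4 * 11 ^ 2 * 13 ^ 3 * 17 * 23 * 29 * 41 * 47 * 59 * 71
  /-- the sum of squares -/
  sq : d * d ≤ ordM
  r17 : d % 17 ∈ [0, 6, 11]
  r23 : d % 23 ∈ [0, 3, 20]
  r29 : 29 ∣ d
  r41 : d % 41 ∈ [0, 1, 40]
  r47 : d % 47 ∈ [0, 1, 46]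
  r59 : d % 59 ∈ [0, 1, 58]
  r71 : d % 71 ∈ [0, 1, 70]
  /-- `χ(19A) ≡ d mod 19`, `χ(19A) ∈ {±1, ±4, ±5}` and `χ(19A) ≡ m mod 3` -/
  s19 : (d % 19, d / 3 ^ 19 % 3) ∈ [(1, 1), (18, 2), (4, 1), (15, 2), (5, 2), (14, 1)]
  /-- `χ(31A) = c η`, `d ≡ 15 c mod 31`, `c ∈ {±1, ±2}` and `c ≡ -m mod 3` -/
  s31 : (d % 31, d / 3 ^ 19 % 3) ∈ [(15, 2), (16, 1), (30, 1), (1, 2)]

/-- table mod 57 -/
def t57 : ℕ × ℕ × List ℕ := (57, 300262544541607675171227572233277242099525792343923363870143227870068284058152119454682599664558946355520052957813089445526010059843314112745512404366112568952962586581981385176956016012129760403689344008602041755126903286927263370479386020082161820446912587497606208388617673829814417037950479217315859935416640849804123615427513491785660110109212058371563845651574225369389199281173943834296144993829372875496812738789451701038832132386676117984234206552786113981836020292841178533324439447677013407730309185901603603655641629121414016677099601920, [5, 8, 13, 44, 49, 52])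

/-- table mod 93 -/
def t93 : ℕ × ℕ × List ℕ := (93, 40443920274069532396504004154450368096799249564872779518119521322027213001934944002726800774615913087213877646383560071840515073608753015346805268155400176553451502505235616137788222468678646169891973729862418554931065027724442081899048735157721979242957292673275922168649792176094145762813314674432089762169142260722163942687061845455629959889375738889975187145705591125191967156013284857840333741659049755543897303588735333773579315757582320689748448000113862472330951385123947246652184893261405807048343711281086699990111643765489891599634489410402299814843495200425186544976087800508099017264671819778940831464312640413767506539949002411695546592762409105827655463118689703791523938246197116170914122393303506410581915620179174451674575506824530669970089285467554733670447519042220790085284327982929093762657659638507188191869668781915709118596020961280, [22, 44, 49, 71])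

/-- table mod 23 -/
def t23 : ℕ × ℕ × List ℕ := (23, 176587096587519213352876003827410770462253171361080620964849654937315439704244573961226300011105430413692758289391215029404143025808353698752188346838323281754704538701419766043148277296305976941902030826203967008014335, [0, 11, 12])

/-- table mod 17 -/
def t17 : ℕ × ℕ × List ℕ := (17, 15356292416919735928918058686297938362605332153670139168575534432830890587466463381535860916083677275558540978133180179879769303292332441056290233048178476015681535, [0, 4, 13])

/-- table mod 41 -/
def t41 : ℕ × ℕ × List ℕ := (41, 1212827177534230774185149570748935043496421495074636282127378917177562966683488510663077037954198000192419923307340061591102391423503985938877347090645954487976535964990329144165114567416072204715003330326970638046464902102581888846565780920176312354770425935087879120947009134827897671194831284097802621144595871326885671750203352220245613985344087729147234291462634718887935, [0, 3, 38])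

/-- table mod 47 -/
def t47 : ℕ × ℕ × List ℕ := (47, 140298665182971274921963864305928847712234297568929834835538265151107216466404197816982748136566299454971820753148143388567875630387084515632497834922962628948948870182463604096027569565923031209499837133466175205342595056014899292762306974552898855410327772793113358400913420706901379332872380495208802582692248405389478307348086478388429971364008186272777095175334646814155548466897130051683474015312509364294901407536588613369879845716095234983591935, [0, 13, 34])

/-- table mod 59 -/
def t59 : ℕ × ℕ × List ℕ := (59, 658994700418783213260685721812865324529078468839703539734098110043565877817688327309132099565691426118469215047595814619058201271518511589875505759103084302492569408621011341436258554458366178544546897736957954107570978932375804928622885994188771497235917397580548776020399179434599587645509846446426972906515787421532133975424812542453009770898854470257595579432305254762807907566866701576857535094019957444324336339931876049585931638334342122808894700984588316283184536369627700429977480457820706264238825558772806156687298046819519962543185969917903331393535,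 [0, 10, 49])

/-- table mod 71 -/
def t71 : ℕ × ℕ × List ℕ := (71, 415451412308684116857704638328384865095053907913609027294366478958437461916408410547789488422764298779470856946936219207855465139514650757988827663710544682502806733575440537884617949322065003849169608665951407055393073225349449718463394116649331671738044778914564137171508663869393441597061105310907016029216558662617026453270253803513470247223506452076960602707094557427289172983189314090006671826584029077302719728966462001727082370823599390572912299176948181968923500572156066752001052670082189179766589410353525310536687757843271838609555482702861307262670350907363330483597554070585655449996584355731513624832235977743786456548194812783348813097770390820429144698006798335, [0, 11, 60])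

/-- the tables -/
def ls : List (ℕ × ℕ × List ℕ) := [t57, t93, t23, t17, t41, t47, t59, t71]

/-- the free primes -/
def fs : List (ℕ × ℕ) := [(71, 1), (59, 1), (47, 1), (41, 1), (23, 1), (17, 1), (13, 3), (11, 2), (7, 4), (5, 6)]

/-- the survivors `m` -/
def Lm : List ℕ := [3014325743, 749772835735, 15015016006067, 52938443364352, 57206693635625, 167747495618560, 333171783733880, 395578200671875, 533778738024350, 593466480933326, 593469495259069, 1439778065421410, 2797815227380160, 3929123153120000, 4100575799801600, 4359120579043328, 4424045328294878, 10988261713530850, 11727646787432576, 13659511475987377, 16017874217975000, 26634174733600000, 29289827141440000, 30030032012134000, 34297095384370000, 35191269656891075, 56439300164519272, 83768905624518400, 114808965471921875, 257399000918974720, 293929273329778688, 297122596733874184, 335591917756160000, 386786812316285920, 403137858317994800, 591845528868880000, 766720428269286400]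

/-- the bound for `m` -/
def bd : ℕ := 773404195230237691

theorem t57_ok : tabOK 32 t57 = true := by decide +kernel

theorem t93_ok : tabOK 32 t93 = true := by decide +kernel

theorem t23_ok : tabOK 32 t23 = true := by decide +kernel

theorem t17_ok : tabOK 32 t17 = true := by decide +kernel

theorem t41_ok : tabOK 32 t41 = true := by decide +kernel

theorem t47_ok : tabOK 32 t47 = true := by decide +kernel

theorem t59_ok : tabOK 32 t59 = true := by decide +kernel

theorem t71_ok : tabOK 32 t71 = true := by decide +kernel

theorem chk_ok : chkR bd (leafR 32 bd Lm ls 4294967295) fs 29 = true := by decide +kernel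

theorem lt_ls : ∀ x ∈ ls, 0 < x.1 ∧ tabOK 32 x = true := by
  intro x hx
  unfold ls at hx
  simp only [List.mem_cons, List.not_mem_nil, or_false] at hx
  rcases hx with rfl | rfl | rfl | rfl | rfl | rfl | rfl | rfl
  · exact ⟨by decide, t57_ok⟩
  · exact ⟨by decide, t93_ok⟩
  · exact ⟨by decide, t23_ok⟩
  · exact ⟨by decide, t17_ok⟩
  · exact ⟨by decide, t41_ok⟩
  · exact ⟨by decide, t47_ok⟩
  · exact ⟨by decide, t59_ok⟩
  · exact ⟨by decide, t71_ok⟩

theorem fs_prime : ∀ f ∈ fs, f.1.Prime := by
  intro f hf
  unfold fs at hf
  simp only [List.mem_cons, List.not_mem_nil, or_false] at hf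
  rcases hf with rfl | rfl | rfl | rfl | rfl | rfl | rfl | rfl | rfl | rfl <;> norm_num

theorem prd_fs : prd fs = 71 * 59 * 47 * 41 * 23 * 17 * 13 ^ 3 * 11 ^ 2 * 7 ^ 4 * 5 ^ 6 := by
  simp [prd, fs]

/-- transfer of a residue condition from `d = 3 ^ 19 m` to `m` -/
theorem res_of (l : ℕ) (R A : List ℕ) (hl : 0 < l)
    (h : (List.range l).all (fun x => (!(R.elem ((3 ^ 19 * x) % l))) || A.elem x) = true) (m : ℕ)
    (hm : (3 ^ 19 * m) % l ∈ R) : m % l ∈ A := by
  rw [List.all_eq_true] at h
  have h1 := h (m % l) (List.mem_range.2 (Nat.mod_lt _ hl))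
  have h2 : (3 ^ 19 * (m % l)) % l = (3 ^ 19 * m) % l := by rw [Nat.mul_mod_mod]
  rw [h2] at h1
  have h3 : R.elem ((3 ^ 19 * m) % l) = true := List.elem_iff.2 hm
  rw [h3] at h1
  exact List.elem_iff.1 (by simpa using h1)

/-- the same for a condition modulo `q` combined with the residue modulo `3` -/
theorem res_of3 (q : ℕ) (R : List (ℕ × ℕ)) (A : List ℕ) (hq : 0 < q)
    (h : (List.range (3 * q)).all (fun x => (!(R.elem ((3 ^ 19 * x) % q, x % 3))) || A.elem x) = true) (m : ℕ)
    (hm : ((3 ^ 19 * m) % q, m % 3) ∈ R) : m % (3 * q) ∈ A := by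
  rw [List.all_eq_true] at h
  have h1 := h (m % (3 * q)) (List.mem_range.2 (Nat.mod_lt _ (by omega)))
  have h2 : (3 ^ 19 * (m % (3 * q))) % q = (3 ^ 19 * m) % q := by
    rw [Nat.mul_mod, Nat.mod_mul_left_mod, ← Nat.mul_mod]
  have h4 : (m % (3 * q)) % 3 = m % 3 := Nat.mod_mul_right_mod m 3 q
  rw [h2, h4] at h1
  have h3 : R.elem ((3 ^ 19 * m) % q, m % 3) = true := List.elem_iff.2 hm
  rw [h3] at h1
  exact List.elem_iff.1 (by simpa using h1)

/-- **The list of candidates.** -/
theorem cand_mem {d : ℕ} (h : Cand d) : ∃ m ∈ Lm, d = 3 ^ 19 * m := by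
  obtain ⟨m, rfl⟩ := h.three
  refine ⟨m, ?_, rfl⟩
  have hdm : 3 ^ 19 * m / 3 ^ 19 = m := Nat.mul_div_cancel_left m (by norm_num)
  have h19 := h.s19
  have h31 := h.s31
  rw [hdm] at h19 h31
  have hsq := h.sq
  have hB : m ≤ bd := by
    by_contra hlt
    have h1 : bd + 1 ≤ m := by omega
    have h2 : (3 ^ 19 * (bd + 1)) * (3 ^ 19 * (bd + 1)) ≤ 3 ^ 19 * m * (3 ^ 19 * m) :=
      Nat.mul_le_mul (Nat.mul_le_mul_left _ h1) (Nat.mul_le_mul_left _ h1)
    have h3 : ordM < (3 ^ 19 * (bd + 1)) * (3 ^ 19 * (bd + 1)) := by unfold ordM bd; norm_num
    omega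
  have hdiv : m ∣ 29 * (2 ^ 31 * prd fs) := by
    have h1 := h.div
    have e1 : 2 ^ 31 * 3 ^ 19 * 5 ^ 6 * 7 ^ 4 * 11 ^ 2 * 13 ^ 3 * 17 * 23 * 29 * 41 * 47 * 59 * 71 =
        3 ^ 19 * (29 * (2 ^ 31 * prd fs)) := by rw [prd_fs]; norm_num
    rw [e1] at h1
    exact Nat.dvd_of_mul_dvd_mul_left (by norm_num) h1
  have h29 : 29 ∣ m := by
    have h1 := h.r29
    exact (Nat.Coprime.dvd_mul_left (by norm_num : Nat.Coprime 29 (3 ^ 19))).1 h1
  have c57 : m % (3 * 19) ∈ t57.2.2 := res_of3 19 [(1, 1), (18, 2), (4, 1), (15, 2), (5, 2), (14, 1)] t57.2.2 (by norm_num) (by decide +kernel) _ h19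
  have c93 : m % (3 * 31) ∈ t93.2.2 := res_of3 31 [(15, 2), (16, 1), (30, 1), (1, 2)] t93.2.2 (by norm_num) (by decide +kernel) _ h31
  have c23 : m % 23 ∈ t23.2.2 := res_of 23 [0, 3, 20] t23.2.2 (by norm_num) (by decide +kernel) _ h.r23
  have c17 : m % 17 ∈ t17.2.2 := res_of 17 [0, 6, 11] t17.2.2 (by norm_num) (by decide +kernel) _ h.r17
  have c41 : m % 41 ∈ t41.2.2 := res_of 41 [0, 1, 40] t41.2.2 (by norm_num) (by decide +kernel) _ h.r41
  have c47 : m % 47 ∈ t47.2.2 := res_of 47 [0, 1, 46] t47.2.2 (by norm_num) (by decide +kernel) _ h.r47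
  have c59 : m % 59 ∈ t59.2.2 := res_of 59 [0, 1, 58] t59.2.2 (by norm_num) (by decide +kernel) _ h.r59
  have c71 : m % 71 ∈ t71.2.2 := res_of 71 [0, 1, 70] t71.2.2 (by norm_num) (by decide +kernel) _ h.r71
  obtain ⟨n, rfl⟩ := h29
  have hn : n ∣ 2 ^ 31 * prd fs := Nat.dvd_of_mul_dvd_mul_left (by norm_num) hdiv
  obtain ⟨a, b, ha, hb, rfl⟩ := (Nat.dvd_mul).1 hn
  obtain ⟨t, ht, rfl⟩ := (Nat.dvd_prime_pow Nat.prime_two).1 ha
  have e2 : 29 * (2 ^ t * b) = 29 * b * 2 ^ t := by ring
  rw [e2] at hB c57 c93 c23 c17 c41 c47 c59 c71 ⊢
  refine sieveR 32 bd 4294967295 Lm ls fs 29 fs_prime lt_ls ?_ chk_ok b t hb (by omega) hB ?_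
  · intro s hs
    have : (4294967295 : ℕ) = 2 ^ 32 - 1 := by norm_num
    rw [this, Nat.testBit_two_pow_sub_one]
    simpa using hs
  · intro x hx
    unfold ls at hx
    simp only [List.mem_cons, List.not_mem_nil, or_false] at hx
    rcases hx with rfl | rfl | rfl | rfl | rfl | rfl | rfl | rfl
    · exact c57
    · exact c93
    · exact c23
    · exact c17
    · exact c41
    · exact c47
    · exact c59
    · exact c71

/-- one of three members of the list is prime to `196883` -/
theorem triple_ok : (Lm.all fun a => Lm.all fun b => (!(Lm.elem (a + b))) ||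
    ((Nat.gcd (3 ^ 19 * a) 196883).beq 1 || (Nat.gcd (3 ^ 19 * b) 196883).beq 1 ||
      (Nat.gcd (3 ^ 19 * (a + b)) 196883).beq 1)) = true := by decide +kernel

/-- **The sieve of the Monster.** -/
theorem m_sieve {d₁ d₂ d₃ : ℕ} (h1 : Cand d₁) (h2 : Cand d₂) (h3 : Cand d₃) (h : d₁ + d₂ = d₃) :
    Nat.Coprime d₁ 196883 ∨ Nat.Coprime d₂ 196883 ∨ Nat.Coprime d₃ 196883 := by
  obtain ⟨a, ha, rfl⟩ := cand_mem h1
  obtain ⟨b, hb, rfl⟩ := cand_mem h2
  obtain ⟨c, hc, rfl⟩ := cand_mem h3
  have hc' : c = a + b := by
    have : 3 ^ 19 * (a + b) = 3 ^ 19 * c := by rw [mul_add]; exact h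
    exact (Nat.eq_of_mul_eq_mul_left (by norm_num) this).symm
  subst hc'
  have h4 := triple_ok
  rw [List.all_eq_true] at h4
  have h5 := h4 a ha
  rw [List.all_eq_true] at h5
  have h6 := h5 b hb
  rw [List.elem_iff.2 hc] at h6
  simp only [Bool.not_true, Bool.false_or, Bool.or_eq_true, Nat.beq_eq] at h6
  rcases h6 with (h6 | h6) | h6
  · exact Or.inl h6
  · exact Or.inr (Or.inl h6)
  · exact Or.inr (Or.inr h6)

end Cfsg.Agent.H853.Sieve.RowM
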