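import Mathlib.Data.Nat.Prime.Basic
import Mathlib.Data.Nat.GCD.Basic
import Mathlib.Data.List.Basic
import Mathlib.Tactic

/-!
# A kernel friendly sieve over divisors

`chk fs acc B ok` runs over all products `acc * prod p_i ^ j_i` (`j_i ≤ e_i`), prunes at `B`, and
tests `ok` at the leaves.  `chk_spec`: if it returns `true` then `ok (acc * m)` holds for every
divisor `m` of `prod p_i ^ e_i` with `acc * m ≤ B`.
-/

set_option autoImplicit false

namespace Cfsg.Agent.H853.Sieve

/-- product of the prime powers -/
def prd : List (ℕ × ℕ) → ℕ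
  | [] => 1
  | f :: fs => f.1 ^ f.2 * prd fs

/-- run `k` on `acc, acc * p, ..., acc * p ^ e`, stop as soon as the bound is exceeded -/
def loop (p B : ℕ) (k : ℕ → Bool) : ℕ → ℕ → Bool
  | 0, acc => k acc
  | e + 1, acc =>
    match k acc with
    | false => false
    | true => match Nat.ble (acc * p) B with
      | true => loop p B k e (acc * p)
      | false => true

/-- the enumeration -/
def chk (B : ℕ) (ok : ℕ → Bool) : List (ℕ × ℕ) → ℕ → Bool
  | [], acc => ok acc
  | f :: fs, acc => loop f.1 B (chk B ok fs) f.2 acc

theorem loop_spec (p B : ℕ) (k : ℕ → Bool) (hp : 0 < p) :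
    ∀ (e acc : ℕ), loop p B k e acc = true → ∀ i ≤ e, acc * p ^ i ≤ B → k (acc * p ^ i) = true := by
  intro e
  induction e with
  | zero =>
    intro acc h i hi _
    have : i = 0 := by omega
    subst this
    simpa [loop] using h
  | succ e ih =>
    intro acc h i hi hB
    rw [loop] at h
    cases hk : k acc with
    | false => rw [hk] at h; simp at h
    | true =>
      rw [hk] at h
      rcases Nat.eq_zero_or_pos i with h0 | h0
      · subst h0; simpa using hk
      · obtain ⟨j, rfl⟩ : ∃ j, i = j + 1 := ⟨i - 1, by omega⟩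
        have e1 : acc * p ^ (j + 1) = acc * p * p ^ j := by rw [pow_succ]; ring
        have hle : acc * p ≤ B := by
          refine le_trans ?_ hB
          rw [e1]
          exact Nat.le_mul_of_pos_right _ (pow_pos hp j)
        have hb : Nat.ble (acc * p) B = true := by rw [Nat.ble_eq]; exact hle
        simp only [hb] at h
        have := ih (acc * p) h j (by omega) (by rw [← e1]; exact hB)
        rw [e1]; exact this

theorem chk_spec (B : ℕ) (ok : ℕ → Bool) :
    ∀ (fs : List (ℕ × ℕ)) (acc : ℕ), (∀ f ∈ fs, f.1.Prime) → chk B ok fs acc = true →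
      ∀ m, m ∣ prd fs → acc * m ≤ B → ok (acc * m) = true := by
  intro fs
  induction fs with
  | nil =>
    intro acc _ h m hm _
    have : m = 1 := by simpa [prd] using hm
    subst this
    simpa [chk] using h
  | cons f fs ih =>
    intro acc hpr h m hm hB
    have hf : f.1.Prime := hpr f (by simp)
    rw [prd] at hm
    obtain ⟨a, b, ha, hb, rfl⟩ := (Nat.dvd_mul).1 hm
    obtain ⟨i, hi, rfl⟩ := (Nat.dvd_prime_pow hf).1 ha
    have hbpos : 0 < b ∨ b = 0 := by omega
    rw [chk] at h
    rcases Nat.eq_zero_or_pos b with hb0 | hb0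
    · exfalso
      subst hb0
      have h0 : prd fs = 0 := by simpa using hb
      have : ∀ gs : List (ℕ × ℕ), (∀ f ∈ gs, f.1.Prime) → prd gs ≠ 0 := by
        intro gs
        induction gs with
        | nil => intro _; simp [prd]
        | cons g gs ihg =>
          intro hg
          rw [prd]
          exact mul_ne_zero (pow_ne_zero _ (hg g (by simp)).ne_zero)
            (ihg (fun f hf => hg f (by simp [hf])))
      exact this fs (fun f hf => hpr f (by simp [hf])) h0
    · have hle : acc * f.1 ^ i ≤ B := by
        refine le_trans ?_ hB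
        rw [← mul_assoc]
        exact Nat.le_mul_of_pos_right _ hb0
      have := loop_spec f.1 B _ hf.pos f.2 acc h i hi hle
      have := ih (acc * f.1 ^ i) (fun f hf => hpr f (by simp [hf])) this b hb
        (by rw [mul_assoc]; exact hB)
      rw [← mul_assoc]
      exact this

/-- residue test: `d mod l` lies in the list `R` (list the residues and their negatives) -/
def inR (d l : ℕ) (R : List ℕ) : Bool := R.elem (d % l)

/-- leaf test: if all residue conditions hold, then `d` is in the list `L` -/
def leaf (cs : List (ℕ × List ℕ)) (L : List ℕ) (d : ℕ) : Bool :=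
  match cs with
  | [] => L.elem d
  | c :: cs => match inR d c.1 c.2 with
    | true => leaf cs L d
    | false => true

theorem leaf_spec (cs : List (ℕ × List ℕ)) (L : List ℕ) (d : ℕ) (h : leaf cs L d = true)
    (hc : ∀ c ∈ cs, d % c.1 ∈ c.2) : d ∈ L := by
  induction cs with
  | nil => simpa [leaf] using h
  | cons c cs ih =>
    rw [leaf] at h
    have h1 : inR d c.1 c.2 = true := by
      unfold inR
      exact List.elem_iff.2 (hc c (by simp))
    rw [h1] at h
    exact ih h (fun c hc' => hc c (by simp [hc']))

/-- **The sieve.**  `P = acc0` is the forced part, `prd fs` the free part of the group order. -/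
theorem sieve (B : ℕ) (cs : List (ℕ × List ℕ)) (L : List ℕ) (fs : List (ℕ × ℕ)) (acc : ℕ)
    (hpr : ∀ f ∈ fs, f.1.Prime) (h : chk B (leaf cs L) fs acc = true) (d m : ℕ)
    (hd : d = acc * m) (hm : m ∣ prd fs) (hB : d ≤ B) (hc : ∀ c ∈ cs, d % c.1 ∈ c.2) : d ∈ L := by
  subst hd
  exact leaf_spec cs L _ (chk_spec B _ fs acc hpr h m hm hB) hc

end Cfsg.Agent.H853.Sieve
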