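import Cfsg.Agent.H853.Sieve.Engine
import Mathlib.Data.Nat.Bitwise

/-!
# The sieve with bit masks for the powers of two (helper853)

`chkR` enumerates the odd parts `acc`; for each of them `node` computes a mask of the exponents `t < W` for which
`acc * 2 ^ t` satisfies all residue conditions (tables `T`), `surv` tests the survivors.
Everything is written with recursors so that `decide +kernel` is fast.
-/

set_option autoImplicit false

namespace Cfsg.Agent.H853.Sieve

/-- forced evaluation -/
noncomputable def seqB (n : ℕ) (f : ℕ → Bool) : Bool :=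
  Nat.rec (motive := fun _ => Bool) (f 0) (fun m _ => f (Nat.succ m)) n

theorem seqB_eq (n : ℕ) (f : ℕ → Bool) : seqB n f = f n := by cases n <;> rfl

/-- membership -/
noncomputable def memB (x : ℕ) (L : List ℕ) : Bool :=
  List.rec (motive := fun _ => Bool) false (fun y _ ih => Bool.rec (motive := fun _ => Bool) ih true (Nat.beq x y)) L

theorem memB_iff (x : ℕ) (L : List ℕ) : memB x L = true ↔ x ∈ L := by
  induction L with
  | nil => simp [memB]
  | cons y L ih =>
    have h : memB x (y :: L) = Bool.rec (motive := fun _ => Bool) (memB x L) true (Nat.beq x y) := rfl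
    rw [h, List.mem_cons]
    cases hb : Nat.beq x y with
    | false =>
      have : x ≠ y := fun e => by rw [e, Nat.beq_refl] at hb; exact absurd hb (by decide)
      simp only [this, false_or]
      exact ih
    | true =>
      have : x = y := Nat.eq_of_beq_eq_true hb
      simp [this]

/-- all exponents `t < fuel` whose bit is set give an element of `L` (or exceed the bound) -/
noncomputable def surv (B : ℕ) (L : List ℕ) (fuel : ℕ) : ℕ → ℕ → Bool :=
  Nat.rec (motive := fun _ => ℕ → ℕ → Bool) (fun _ _ => true)
    (fun _ ih acc m =>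
      Bool.rec (motive := fun _ => Bool) false
        (seqB (Nat.mul acc 2) fun a => seqB (Nat.div m 2) fun m' => ih a m')
        (Bool.rec (motive := fun _ => Bool) true
          (Bool.rec (motive := fun _ => Bool) true (memB acc L) (Nat.ble acc B)) (Nat.beq (Nat.mod m 2) 1))) fuel

theorem surv_spec (B : ℕ) (L : List ℕ) (fuel : ℕ) : ∀ (acc m : ℕ), surv B L fuel acc m = true →
    ∀ t < fuel, m.testBit t = true → acc * 2 ^ t ≤ B → acc * 2 ^ t ∈ L := by
  induction fuel with
  | zero => intro acc m _ t ht; omega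
  | succ n ih =>
    intro acc m h t ht hb hB
    have e : surv B L (n + 1) acc m = Bool.rec (motive := fun _ => Bool) false
        (seqB (Nat.mul acc 2) fun a => seqB (Nat.div m 2) fun m' => surv B L n a m')
        (Bool.rec (motive := fun _ => Bool) true
          (Bool.rec (motive := fun _ => Bool) true (memB acc L) (Nat.ble acc B)) (Nat.beq (Nat.mod m 2) 1)) := rfl
    rw [e] at h
    cases hc : (Bool.rec (motive := fun _ => Bool) true
          (Bool.rec (motive := fun _ => Bool) true (memB acc L) (Nat.ble acc B)) (Nat.beq (Nat.mod m 2) 1) : Bool) with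
    | false => rw [hc] at h; exact absurd h Bool.false_ne_true
    | true =>
      rw [hc] at h
      simp only [seqB_eq] at h
      rcases Nat.eq_zero_or_pos t with h0 | h0
      · subst h0
        have h1 : m % 2 = 1 := by
          rw [Nat.testBit_zero] at hb
          exact of_decide_eq_true hb
        have h2 : Nat.beq (Nat.mod m 2) 1 = true := by
          rw [Nat.beq_eq]
          exact h1
        rw [h2] at hc
        have h3 : Nat.ble acc B = true := by
          rw [Nat.ble_eq]
          simpa using hB
        simp only [h3] at hc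
        rw [pow_zero, mul_one]
        exact (memB_iff _ _).1 hc
      · obtain ⟨s, rfl⟩ : ∃ s, t = s + 1 := ⟨t - 1, by omega⟩
        have h4 := ih _ _ h s (by omega) (by
          have : (m / 2).testBit s = true := by rw [Nat.testBit_div_two]; exact hb
          exact this) (by
          have e1 : Nat.mul acc 2 * 2 ^ s = acc * 2 ^ (s + 1) := by
            show acc * 2 * 2 ^ s = _
            rw [pow_succ]; ring
          rw [e1]; exact hB)
        have e1 : Nat.mul acc 2 * 2 ^ s = acc * 2 ^ (s + 1) := by
          show acc * 2 * 2 ^ s = _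
          rw [pow_succ]; ring
        rw [e1] at h4
        exact h4

/-- the mask of the admissible exponents -/
noncomputable def node (W : ℕ) (k : ℕ → Bool) (acc : ℕ) (ls : List (ℕ × ℕ × List ℕ)) : ℕ → Bool :=
  List.rec (motive := fun _ => ℕ → Bool) (fun m => k m)
    (fun x _ ih m => seqB (Nat.land m (Nat.shiftRight x.2.1 (Nat.mul W (Nat.mod acc x.1)))) fun m' =>
      Nat.rec (motive := fun _ => Bool) true (fun _ _ => ih m') m') ls

/-- the table is complete for the residue list -/
def tabOK (W : ℕ) (x : ℕ × ℕ × List ℕ) : Bool :=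
  (List.range x.1).all fun r => (List.range W).all fun t =>
    (!(x.2.2.elem ((r * 2 ^ t) % x.1))) || x.2.1.testBit (W * r + t)

theorem tabOK_spec {W : ℕ} {x : ℕ × ℕ × List ℕ} (h : tabOK W x = true) {r t : ℕ} (hr : r < x.1) (ht : t < W)
    (hm : (r * 2 ^ t) % x.1 ∈ x.2.2) : x.2.1.testBit (W * r + t) = true := by
  unfold tabOK at h
  rw [List.all_eq_true] at h
  have h1 := h r (List.mem_range.2 hr)
  rw [List.all_eq_true] at h1
  have h2 := h1 t (List.mem_range.2 ht)
  have h3 : x.2.2.elem ((r * 2 ^ t) % x.1) = true := List.elem_iff.2 hm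
  rw [h3] at h2
  simpa using h2

theorem node_spec (W : ℕ) (k : ℕ → Bool) (acc : ℕ) (ls : List (ℕ × ℕ × List ℕ)) :
    ∀ m, node W k acc ls m = true → (∀ x ∈ ls, 0 < x.1 ∧ tabOK W x = true) →
      ∀ t < W, m.testBit t = true → (∀ x ∈ ls, (acc * 2 ^ t) % x.1 ∈ x.2.2) →
        ∃ m', k m' = true ∧ m'.testBit t = true := by
  induction ls with
  | nil => intro m h _ t _ hb _; exact ⟨m, h, hb⟩
  | cons x ls ih =>
    intro m h hT t ht hb hc
    have e : node W k acc (x :: ls) m =
        seqB (Nat.land m (Nat.shiftRight x.2.1 (Nat.mul W (Nat.mod acc x.1)))) fun m' =>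
          Nat.rec (motive := fun _ => Bool) true (fun _ _ => node W k acc ls m') m' := rfl
    rw [e, seqB_eq] at h
    obtain ⟨hx0, hx1⟩ := hT x (by simp)
    have hbit : (Nat.land m (Nat.shiftRight x.2.1 (Nat.mul W (Nat.mod acc x.1)))).testBit t = true := by
      have e2 : Nat.land m (Nat.shiftRight x.2.1 (Nat.mul W (Nat.mod acc x.1))) =
          m &&& (x.2.1 >>> (W * (acc % x.1))) := rfl
      rw [e2, Nat.testBit_and, Nat.testBit_shiftRight, hb, Bool.true_and]
      refine tabOK_spec hx1 (Nat.mod_lt _ hx0) ht ?_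
      have h5 := hc x (by simp)
      rwa [Nat.mod_mul_mod] 
    have hne : Nat.land m (Nat.shiftRight x.2.1 (Nat.mul W (Nat.mod acc x.1))) ≠ 0 := by
      intro h0
      rw [h0, Nat.zero_testBit] at hbit
      exact absurd hbit (by decide)
    obtain ⟨j, hj⟩ := Nat.exists_eq_succ_of_ne_zero hne
    rw [hj] at h hbit
    exact ih _ h (fun y hy => hT y (by simp [hy])) t ht hbit (fun y hy => hc y (by simp [hy]))

/-- `k` on `acc, acc * p, ..., acc * p ^ e`, with pruning -/
noncomputable def loopR (B p : ℕ) (k : ℕ → Bool) (e : ℕ) : ℕ → Bool :=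
  Nat.rec (motive := fun _ => ℕ → Bool) (fun acc => k acc)
    (fun _ ih acc => Bool.rec (motive := fun _ => Bool) false
      (seqB (Nat.mul acc p) fun a => Bool.rec (motive := fun _ => Bool) true (ih a) (Nat.ble a B)) (k acc)) e

/-- the enumeration -/
noncomputable def chkR (B : ℕ) (k : ℕ → Bool) (fs : List (ℕ × ℕ)) : ℕ → Bool :=
  List.rec (motive := fun _ => ℕ → Bool) k (fun f _ ih acc => loopR B f.1 ih f.2 acc) fs

theorem loopR_spec (B p : ℕ) (k : ℕ → Bool) (hp : 0 < p) :
    ∀ (e acc : ℕ), loopR B p k e acc = true → ∀ i ≤ e, acc * p ^ i ≤ B → k (acc * p ^ i) = true := by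
  intro e
  induction e with
  | zero =>
    intro acc h i hi _
    have : i = 0 := by omega
    subst this
    rw [pow_zero, mul_one]
    exact h
  | succ e ih =>
    intro acc h i hi hB
    have e0 : loopR B p k (e + 1) acc = Bool.rec (motive := fun _ => Bool) false
      (seqB (Nat.mul acc p) fun a => Bool.rec (motive := fun _ => Bool) true (loopR B p k e a) (Nat.ble a B))
        (k acc) := rfl
    rw [e0] at h
    cases hk : k acc with
    | false => rw [hk] at h; exact absurd h Bool.false_ne_true
    | true =>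
      rw [hk] at h
      simp only [seqB_eq] at h
      rcases Nat.eq_zero_or_pos i with h0 | h0
      · subst h0; rw [pow_zero, mul_one]; exact hk
      · obtain ⟨j, rfl⟩ : ∃ j, i = j + 1 := ⟨i - 1, by omega⟩
        have e1 : acc * p ^ (j + 1) = Nat.mul acc p * p ^ j := by
          show _ = acc * p * p ^ j
          rw [pow_succ]; ring
        have hle : Nat.mul acc p ≤ B := by
          refine le_trans ?_ hB
          rw [e1]
          exact Nat.le_mul_of_pos_right _ (pow_pos hp j)
        have hb : Nat.ble (Nat.mul acc p) B = true := by rw [Nat.ble_eq]; exact hle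
        rw [hb] at h
        have := ih (Nat.mul acc p) h j (by omega) (by rw [← e1]; exact hB)
        rw [e1]; exact this

theorem prd_ne_zero : ∀ gs : List (ℕ × ℕ), (∀ f ∈ gs, f.1.Prime) → prd gs ≠ 0 := by
  intro gs
  induction gs with
  | nil => intro _; simp [prd]
  | cons g gs ihg =>
    intro hg
    rw [prd]
    exact mul_ne_zero (pow_ne_zero _ (hg g (by simp)).ne_zero)
      (ihg (fun f hf => hg f (by simp [hf])))

theorem chkR_spec (B : ℕ) (k : ℕ → Bool) :
    ∀ (fs : List (ℕ × ℕ)) (acc : ℕ), (∀ f ∈ fs, f.1.Prime) → chkR B k fs acc = true →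
      ∀ m, m ∣ prd fs → acc * m ≤ B → k (acc * m) = true := by
  intro fs
  induction fs with
  | nil =>
    intro acc _ h m hm _
    have : m = 1 := by simpa [prd] using hm
    subst this
    rw [mul_one]
    exact h
  | cons f fs ih =>
    intro acc hpr h m hm hB
    have hf : f.1.Prime := hpr f (by simp)
    rw [prd] at hm
    obtain ⟨a, b, ha, hb, rfl⟩ := (Nat.dvd_mul).1 hm
    obtain ⟨i, hi, rfl⟩ := (Nat.dvd_prime_pow hf).1 ha
    have e0 : chkR B k (f :: fs) acc = loopR B f.1 (chkR B k fs) f.2 acc := rfl
    rw [e0] at h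
    have hb0 : 0 < b := Nat.pos_of_ne_zero fun h0 => by
      subst h0
      exact prd_ne_zero fs (fun f hf => hpr f (by simp [hf])) (by simpa using hb)
    have hle : acc * f.1 ^ i ≤ B := by
      refine le_trans ?_ hB
      rw [← mul_assoc]
      exact Nat.le_mul_of_pos_right _ hb0
    have h1 := loopR_spec B f.1 _ hf.pos f.2 acc h i hi hle
    have h2 := ih (acc * f.1 ^ i) (fun f hf => hpr f (by simp [hf])) h1 b hb
      (by rw [mul_assoc]; exact hB)
    rw [← mul_assoc]
    exact h2

/-- the leaf test with masks -/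
noncomputable def leafR (W B : ℕ) (L : List ℕ) (ls : List (ℕ × ℕ × List ℕ)) (full acc : ℕ) : Bool :=
  node W (fun m => surv B L W acc m) acc ls full

/-- **The sieve with masks.** -/
theorem sieveR (W B full : ℕ) (L : List ℕ) (ls : List (ℕ × ℕ × List ℕ)) (fs : List (ℕ × ℕ)) (acc : ℕ)
    (hpr : ∀ f ∈ fs, f.1.Prime) (hT : ∀ x ∈ ls, 0 < x.1 ∧ tabOK W x = true)
    (hfull : ∀ t < W, full.testBit t = true)
    (h : chkR B (leafR W B L ls full) fs acc = true) (m t : ℕ) (hm : m ∣ prd fs) (ht : t < W)
    (hB : acc * m * 2 ^ t ≤ B) (hc : ∀ x ∈ ls, (acc * m * 2 ^ t) % x.1 ∈ x.2.2) : acc * m * 2 ^ t ∈ L := by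
  have h1 := chkR_spec B _ fs acc hpr h m hm (le_trans (Nat.le_mul_of_pos_right _ (by positivity)) hB)
  unfold leafR at h1
  obtain ⟨m', h2, h3⟩ := node_spec W _ _ ls full h1 hT t ht (hfull t ht) hc
  exact surv_spec B L W _ _ h2 t ht h3 hB

end Cfsg.Agent.H853.Sieve
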